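import Cfsg.Agent.N2.Ex.Asm
import Cfsg.Agent.N2.Ex.Sim.Six
import Cfsg.Agent.N2.Ex.Sim.R3
import Cfsg.Agent.N2.Ex.Sim.CjLU
import Cfsg.Agent.N2.Ex.Sim.ScB
import Cfsg.Agent.N2.Ex.Sim.TrB

/-!
# N2 (S3519), the groups `F₄, E₆, ²E₆, E₇, E₈`: three boxes are left (helper93)
-/

set_option autoImplicit false

namespace Cfsg.Agent.N2.Ex

open Sm

theorem nb : NB := nb_of boxCjL boxCjU

theorem rowS9 : Df.RowN Sl.qS9 :=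
  Sl.rowS9_of ⟨fun _ _ h => .inr (Trp.tr_l2_7_3_4_4 h), fun _ _ h => Trp.tr_l2_11_2_5_5 h, fun _ _ h => .inl (Trp.tr_u3_3_2_7_7 h)⟩

theorem rowS0 : Df.RowN Sc.qS0 := fun cf l tw p e T N _ _ _ G c d g X a hn k hQ R =>
  rowS9 cf l tw p e T N G c d g X a hn k (by simpa [Sc.qS0, Sl.qS9] using hQ) R

theorem boxes_of2 (hcr : Sm.Row qCross) (cc : BoxCC) (mul : BoxMul) : Boxes :=
  boxes_of boxSix boxR3 nb (Sc.rowSc nb rowS0) hcr cc mul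

theorem rows_of2 (hcr : Sm.Row qCross) (cc : BoxCC) (mul : BoxMul) (cf : Cf) :
    N2.Row fF4 ∧ N2.Row fE6 ∧ N2.Row fE7 ∧ N2.Row fE8 ∧ N2.Row f2E6 := rows (boxes_of2 hcr cc mul) cf

end Cfsg.Agent.N2.Ex
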