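import Cfsg.Agent.N2.Tool
import Cfsg.Agent.DS.Gen.Split
import Cfsg.Agent.TH.Own.Grp
import Cfsg.Agent.Lib.MinNormal

/-!
# N2 (S3519), groups of Lie type: the context `Cx`, the bridge to `ASRow` and the trichotomy (helper93)

`G` finite, `T ⊴ G` the socle, `H` a maximal subgroup not containing `T`, `A = H ⊓ T`.

* `Cx p T H` : the non-parabolic context; `Gd T H` : the conclusion; `Cx.mi` : the structure `MI` on `↥T`;
* `cx_row` : from `Cx → Gd` to the hypothesis of `N2.Par.asRow_of`;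
* `tri` : `DS.Loc`, or `Sim` (the socle of `A` is simple), or `Mul` (at least two simple factors).
-/

set_option autoImplicit false
set_option linter.unusedSectionVars false

namespace Cfsg.Agent.N2.Ex

open Subgroup Cfsg.Agent.FP3 Cfsg.Agent.TH Cfsg.Agent.TH.Own

/-- the non-parabolic context -/
structure Cx (p : ℕ) {G : Type} [Group G] (T H : Subgroup G) : Prop where
  setup : DS.Setup T H
  ne_bot : H ⊓ T ≠ ⊥
  noP : ∀ Q : Subgroup G, Q ≤ T → IsPGroup p Q → H ≤ normalizer (Q : Set G) → Q = ⊥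
  idx : p ∣ (H.subgroupOf T).index

/-- the conclusion: `A = H ⊓ T`, as a subgroup of `T`, is good -/
def Gd {G : Type} [Group G] (T H : Subgroup G) : Prop := Good (H.subgroupOf T)

/-- `N ≤ H ⊓ T` is simple, normal in `H`, with trivial centraliser in `T` -/
structure Sim {G : Type} [Group G] (T H N : Subgroup G) : Prop where
  le : N ≤ H ⊓ T
  nrm : ∀ h ∈ H, ∀ x ∈ N, h * x * h⁻¹ ∈ N
  simple : IsSimpleGroup N
  nonab : ¬ IsMulCommutative N
  cent : ∀ t ∈ T, (∀ x ∈ N, t * x = x * t) → t = 1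

/-- `𝓢` is an `H`-invariant set of at least two commuting simple subgroups of `H ⊓ T` with trivial centraliser in `T` -/
structure Mul {G : Type} [Group G] (T H : Subgroup G) (𝓢 : Set (Subgroup G)) : Prop where
  le : ∀ S ∈ 𝓢, S ≤ H ⊓ T
  simple : ∀ S ∈ 𝓢, IsSimpleGroup S
  nonab : ∀ S ∈ 𝓢, ¬ IsMulCommutative S
  comm : ∀ S ∈ 𝓢, ∀ S' ∈ 𝓢, S ≠ S' → ∀ x ∈ S, ∀ y ∈ S', x * y = y * x
  perm : ∀ h ∈ H, ∀ S ∈ 𝓢, TH.cj h S ∈ 𝓢
  two : 𝓢.Nontrivial
  cent : ∀ t ∈ T, (∀ S ∈ 𝓢, ∀ x ∈ S, t * x = x * t) → t = 1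

/-- `R ≤ H ⊓ T` is perfect, normal in `H`, with trivial centraliser in `T` -/
structure Prf {G : Type} [Group G] (T H R : Subgroup G) : Prop where
  le : R ≤ H ⊓ T
  nrm : ∀ h ∈ H, ∀ x ∈ R, h * x * h⁻¹ ∈ R
  perf : ⁅R, R⁆ = R
  cent : ∀ t ∈ T, (∀ x ∈ R, t * x = x * t) → t = 1

section basic

variable {p : ℕ} {G : Type} [Group G] {T H : Subgroup G}

theorem perf_of_simple {N : Subgroup G} (h : IsSimpleGroup N) (hn : ¬ IsMulCommutative N) : ⁅N, N⁆ = N := by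
  have h1 : ⁅(⊤ : Subgroup N), (⊤ : Subgroup N)⁆ = (⊤ : Subgroup N) := by
    rcases (inferInstance : (⁅(⊤ : Subgroup N), (⊤ : Subgroup N)⁆ : Subgroup N).Normal).eq_bot_or_eq_top with h1 | h1
    · exact absurd ⟨⟨fun x y => (commutator_eq_bot_iff_le_centralizer.1 h1 (mem_top y) x (mem_top x))⟩⟩ hn
    · exact h1
  have h2 := congrArg (Subgroup.map N.subtype) h1
  rwa [map_commutator, ← MonoidHom.range_eq_map, range_subtype] at h2

theorem Sim.prf {N : Subgroup G} (h : Sim T H N) : Prf T H N :=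
  ⟨h.le, h.nrm, perf_of_simple h.simple h.nonab, h.cent⟩

theorem Mul.prf {𝓢 : Set (Subgroup G)} (h : Mul T H 𝓢) : Prf T H (sSup 𝓢) where
  le := sSup_le h.le
  nrm a ha x hx := by
    have h1 : TH.cj a (sSup 𝓢) ≤ sSup 𝓢 := by
      rw [map_le_iff_le_comap]
      exact sSup_le fun S hS y hy => le_sSup (h.perm a ha S hS) (conj_mem_cj a hy)
    exact h1 (conj_mem_cj a hx)
  perf := le_antisymm (commutator_le.2 fun a ha b hb => by
      rw [commutatorElement_def]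
      exact mul_mem (mul_mem (mul_mem ha hb) (inv_mem ha)) (inv_mem hb)) (sSup_le fun S hS => by
    rw [← perf_of_simple (h.simple S hS) (h.nonab S hS)]
    exact commutator_mono (le_sSup hS) (le_sSup hS))
  cent t ht h1 := h.cent t ht fun S hS x hx => h1 x (le_sSup hS hx)

/-- the automorphisms of `T` induced by `H` -/
def Gm (hT : T.Normal) (H : Subgroup G) : Subgroup (MulAut T) := H.map (MulAut.conjNormal (H := T))

theorem conjNormal_inj (h : DS.Setup T H) : Function.Injective (@MulAut.conjNormal G _ T h.normal) := by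
  have := h.normal
  refine (injective_iff_map_eq_one _).2 fun g hg => ?_
  rw [← mem_bot, ← h.cent]
  intro x hx
  have h1 := congrArg Subtype.val (DFunLike.congr_fun hg ⟨x, hx⟩)
  rw [MulAut.conjNormal_apply] at h1
  exact (mul_inv_eq_iff_eq_mul.1 h1).symm

theorem mem_Gm (h : DS.Setup T H) {g : G} : @MulAut.conjNormal G _ T h.normal g ∈ Gm h.normal H ↔ g ∈ H :=
  mem_map_iff_mem (conjNormal_inj h)

theorem mi_of (h : DS.Setup T H) (h0 : H ⊓ T ≠ ⊥) : MI (H.subgroupOf T) (Gm h.normal H) where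
  max B hB hi := by
    have := h.normal
    have hn : H ≤ normalizer ((B.map T.subtype : Subgroup G) : Set G) := fun a ha => by
      have k : ∀ a ∈ H, ∀ x ∈ B.map T.subtype, a * x * a⁻¹ ∈ B.map T.subtype := by
        rintro a ha _ ⟨x, hx, rfl⟩
        exact ⟨_, hi _ ((mem_Gm h).2 ha) x hx, rfl⟩
      exact mem_normalizer_iff.2 fun x => ⟨k a ha x, fun hx => by simpa [mul_assoc] using k a⁻¹ (inv_mem ha) _ hx⟩
    have key : ∀ t : T, (t : G) ∈ H ⊔ B.map T.subtype → t ∈ B := fun t ht => by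
      have h1 : (t : G) ∈ ((B.map T.subtype ⊔ H : Subgroup G) : Set G) := by rwa [sup_comm]
      rw [coe_mul_of_right_le_normalizer_left _ _ hn] at h1
      obtain ⟨_, ⟨b, hb, rfl⟩, a, ha, e⟩ := h1
      have h2 : (b⁻¹ * t : T) ∈ H.subgroupOf T := by
        show ((b : G)⁻¹ * t) ∈ H
        rw [← e]
        simpa using ha
      simpa using B.mul_mem hb (hB h2)
    by_cases h1 : B.map T.subtype ≤ H
    · exact Or.inl (le_antisymm (fun b hb => h1 ⟨b, hb, rfl⟩) hB)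
    · exact Or.inr (eq_top_iff.2 fun t _ => key t (h.coatom.2 _ (left_lt_sup.2 h1) ▸ mem_top _))
  ne_top k := h.not_le (subgroupOf_eq_top.1 k)
  ne_bot k := h0 (disjoint_iff.1 (subgroupOf_eq_bot.1 k))
  conj a := by
    have := h.normal
    have e : MulAut.conj a = MulAut.conjNormal (H := T) (a : G) := by
      ext x
      simp
    rw [e, mem_Gm h, mem_subgroupOf]
  inv := by
    rintro _ ⟨g, hg, rfl⟩ a
    show g * a * g⁻¹ ∈ H ↔ (a : G) ∈ H
    exact ⟨fun k => by simpa [mul_assoc] using H.mul_mem (H.mul_mem (H.inv_mem hg) k) hg,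
      fun k => H.mul_mem (H.mul_mem hg k) (H.inv_mem hg)⟩

theorem Cx.mi (C : Cx p T H) : MI (H.subgroupOf T) (Gm C.setup.normal H) := mi_of C.setup C.ne_bot

/-- an `H`-invariant proper subgroup of `T` lies in `H` -/
theorem le_of_inv (h : DS.Setup T H) {B : Subgroup G} (hB : B ≤ T) (hne : B ≠ T)
    (hi : ∀ a ∈ H, ∀ x ∈ B, a * x * a⁻¹ ∈ B) : B ≤ H := by
  by_contra h1
  have h2 : H ⊔ B = ⊤ := h.coatom.2 _ (left_lt_sup.2 h1)
  have hn : H ≤ normalizer (B : Set G) := fun a ha =>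
    mem_normalizer_iff.2 fun x => ⟨hi a ha x, fun hx => by simpa [mul_assoc] using hi a⁻¹ (inv_mem ha) _ hx⟩
  have h3 : B.Normal := normalizer_eq_top_iff.1 (eq_top_iff.2 (h2.ge.trans (sup_le hn le_normalizer)))
  have := h.simple
  rcases (h3.subgroupOf T).eq_bot_or_eq_top with k | k
  · exact h1 ((inf_eq_left.2 hB).symm.trans (disjoint_iff.1 (subgroupOf_eq_bot.1 k)) ▸ bot_le)
  · exact hne (le_antisymm hB (subgroupOf_eq_top.1 k))

theorem card_A : Nat.card (H.subgroupOf T) = Nat.card ↥(H ⊓ T) := by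
  rw [← inf_subgroupOf_right]
  exact Nat.card_congr (subgroupOfEquivOfLe inf_le_right).toEquiv

/-- the basic criterion -/
theorem gd_of_cn [Finite G] {a : T} (ha : (a : G) ∈ H) {c : ℕ} (h : cn a ≤ c)
    (hc : c ^ 3 * Nat.card ↥(H ⊓ T) ≤ Nat.card T) : Gd T H :=
  good_of_cn (A := H.subgroupOf T) ha h (by rwa [card_A])

/-- `H ⊓ T` embeds in the automorphism group of `R` -/
theorem Prf.card_le [Finite G] {R : Subgroup G} (h : Prf T H R) : Nat.card ↥(H ⊓ T) ≤ Nat.card (MulAut R) := by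
  have hn : H ⊓ T ≤ normalizer (R : Set G) := fun a ha =>
    mem_normalizer_iff.2 fun x => ⟨h.nrm a ha.1 x, fun hx => by simpa [mul_assoc] using h.nrm a⁻¹ (inv_mem ha.1) _ hx⟩
  refine Nat.card_le_card_of_injective (R.normalizerMonoidHom.comp (inclusion hn))
    ((injective_iff_map_eq_one _).2 fun a ha => Subtype.ext (h.cent a a.2.2 fun x hx => ?_))
  have h1 := congrArg Subtype.val (DFunLike.congr_fun ha ⟨x, hx⟩)
  exact mul_inv_eq_iff_eq_mul.1 h1

end basic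

section bridge

variable {K : Type} [Group K] [Finite K] [IsSimpleGroup K]

theorem conj_inj (hn : ¬ IsMulCommutative K) : Function.Injective (MulAut.conj : K →* MulAut K) := by
  rcases (MulAut.conj : K →* MulAut K).normal_ker.eq_bot_or_eq_top with h | h
  · exact (MonoidHom.ker_eq_bot_iff _).1 h
  · refine absurd ⟨⟨fun a b => ?_⟩⟩ hn
    have h1 : a ∈ (MulAut.conj : K →* MulAut K).ker := h ▸ mem_top a
    exact mul_inv_eq_iff_eq_mul.1 (DFunLike.congr_fun (MonoidHom.mem_ker.1 h1) b)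

/-- **the bridge**: the hypothesis of `N2.Par.asRow_of` -/
theorem cx_row {p : ℕ} [Fact p.Prime] (hn : ¬ IsMulCommutative K)
    (h : ∀ (G : Type) [Group G] [Finite G] (T H : Subgroup G), Nonempty (T ≃* K) → Cx p T H → Gd T H)
    (A : Subgroup K) (Γ : Subgroup (MulAut K)) (hA : MI A Γ)
    (hO : ∀ E : Subgroup K, N2.Inv Γ E → IsPGroup p E → E = ⊥) (hi : p ∣ A.index) : Good A := by
  have hj := conj_inj hn
  have hN : (Inn K).Normal := ⟨by
    rintro _ ⟨t, rfl⟩ σ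
    exact ⟨σ t, by ext x; simp⟩⟩
  let G := ↥(Inn K ⊔ Γ)
  let T : Subgroup G := (Inn K).subgroupOf (Inn K ⊔ Γ)
  let H : Subgroup G := Γ.subgroupOf (Inn K ⊔ Γ)
  let e : K ≃* T := (MonoidHom.ofInjective hj).trans (subgroupOfEquivOfLe le_sup_left).symm
  have he : ∀ x : K, (((e x : T) : G) : MulAut K) = MulAut.conj x := fun _ => rfl
  have hc : (H.subgroupOf T).comap e.toMonoidHom = A := by
    ext x
    exact hA.conj x
  have hs : DS.Setup T H := by
    refine ⟨hN.subgroupOf _, e.symm.isSimpleGroup, fun k => hn ⟨⟨fun a b => e.injective ?_⟩⟩, ?_, ?_, fun k => ?_⟩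
    · rw [map_mul, map_mul]
      exact k.1.1 _ _
    · refine eq_bot_iff.2 fun g hg => mem_bot.2 (Subtype.ext (MulEquiv.ext fun x => hj ?_))
      have h1 := congrArg Subtype.val (hg (e x) (e x).2)
      have h2 : MulAut.conj x * (g : MulAut K) = (g : MulAut K) * MulAut.conj x := h1
      have h3 : MulAut.conj ((g : MulAut K) x) = (g : MulAut K) * MulAut.conj x * (g : MulAut K)⁻¹ := by
        ext y
        simp
      rw [h3, ← h2, mul_inv_cancel_right]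
      rfl
    · have h1 := mi_covBy hA
      refine ⟨fun k => h1.1.not_ge (subgroupOf_eq_top.1 k), fun B hB => ?_⟩
      have h2 : Γ < B.map (Inn K ⊔ Γ).subtype := by
        have h4 := (map_lt_map_iff_of_injective (Inn K ⊔ Γ).subtype_injective).2 hB
        rwa [map_subgroupOf_eq_of_le (le_sup_right : Γ ≤ Inn K ⊔ Γ)] at h4
      have h3 := (h1.eq_or_eq h2.le (map_subtype_le B)).resolve_left h2.ne'
      exact eq_top_iff.2 fun g _ => (mem_map_iff_mem (Inn K ⊔ Γ).subtype_injective).1 (h3.symm ▸ g.2)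
    · exact hA.ne_top (eq_top_iff.2 fun x _ => (hA.conj x).1 (k (e x).2))
  have hC : Cx p T H := by
    refine ⟨hs, fun k => hA.ne_bot (eq_bot_iff.2 fun x hx => ?_), fun Q hQ hP hH => ?_, ?_⟩
    · have h1 : ((e x : T) : G) ∈ H ⊓ T := ⟨(hA.conj x).2 hx, (e x).2⟩
      rw [k, mem_bot] at h1
      exact mem_bot.2 (e.injective (Subtype.ext (by rw [h1, map_one]; rfl)))
    · have h1 := hO ((Q.subgroupOf T).comap e.toMonoidHom) (fun σ hσ x hx => by
        have h2 := (mem_normalizer_iff.1 (hH (show (⟨σ, mem_sup_right hσ⟩ : G) ∈ H from hσ)) _).1 hx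
        have h3 : ((e (σ x) : T) : G) = ⟨σ, mem_sup_right hσ⟩ * (e x : T) * (⟨σ, mem_sup_right hσ⟩ : G)⁻¹ :=
          Subtype.ext (by
            show MulAut.conj (σ x) = σ * MulAut.conj x * σ⁻¹
            ext y
            simp)
        show ((e (σ x) : T) : G) ∈ Q
        rwa [h3]) ((hP.comap_of_injective _ T.subtype_injective).comap_of_injective _ e.injective)
      refine eq_bot_iff.2 fun x hx => ?_
      have h2 : e.symm ⟨x, hQ hx⟩ ∈ (Q.subgroupOf T).comap e.toMonoidHom := by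
        show ((e (e.symm ⟨x, hQ hx⟩) : T) : G) ∈ Q
        rwa [e.apply_symm_apply]
      rw [h1, mem_bot, map_eq_one_iff _ e.symm.injective] at h2
      exact mem_bot.2 (congrArg Subtype.val h2)
    · rwa [← hc, index_comap_of_surjective _ e.surjective] at hi
  have h1 := (good_comap e.toMonoidHom e.surjective _).2 (h G T H ⟨e.symm⟩ hC)
  rwa [hc] at h1

end bridge

section tri

variable {G : Type} [Group G] [Finite G] {T H : Subgroup G}

/-- the minimal `H`-invariant subgroups of `H ⊓ T` -/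
def MinA (T H N : Subgroup G) : Prop :=
  N ≤ H ⊓ T ∧ N ≠ ⊥ ∧ (∀ h ∈ H, TH.cj h N = N) ∧ ∀ M : Subgroup G, M ≤ N → (∀ h ∈ H, TH.cj h M = M) → M = ⊥ ∨ M = N

theorem exists_minA {Z : Subgroup G} (h1 : Z ≤ H ⊓ T) (h0 : Z ≠ ⊥) (h2 : ∀ h ∈ H, TH.cj h Z = Z) :
    ∃ N, N ≤ Z ∧ MinA T H N := by
  obtain ⟨N, ⟨hNZ, hNn, hN0⟩, hmin⟩ := WellFounded.has_min (wellFounded_lt (α := Subgroup G))
    {N : Subgroup G | N ≤ Z ∧ (∀ h ∈ H, TH.cj h N = N) ∧ N ≠ ⊥} ⟨Z, le_rfl, h2, h0⟩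
  refine ⟨N, hNZ, hNZ.trans h1, hN0, hNn, fun K hKN hK => ?_⟩
  by_cases h3 : K = ⊥
  · exact Or.inl h3
  · exact Or.inr (eq_of_le_of_not_lt hKN (hmin K ⟨hKN.trans hNZ, hK, h3⟩))

theorem MinA.exists_simple {N : Subgroup G} (h : MinA T H N) :
    ∃ S : Subgroup G, S ≤ N ∧ (∀ x ∈ N, TH.cj x S = S) ∧ IsSimpleGroup S := by
  have hN : N ≤ H := h.1.trans inf_le_left
  have h1 : (N.subgroupOf H).Normal := ⟨fun x hx a => nm_conj (K := N) (h.2.2.1 a a.2) hx⟩
  obtain ⟨-, s, -, -, ⟨S, hS⟩, -, -, h2⟩ := Lib.MinNormal.exists_set_decomposition (N.subgroupOf H)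
    (fun e => h.2.1 (by rw [← Subgroup.map_subgroupOf_eq_of_le hN, e, Subgroup.map_bot])) fun M hM hMN => by
      rcases h.2.2.2 (M.map H.subtype) (Subgroup.map_le_iff_le_comap.2 hMN) (fun a ha => nm_of_conj (by
        rintro _ ⟨x, hx, rfl⟩
        exact ⟨_, hM.conj_mem x hx ⟨a, ha⟩, rfl⟩)) with h3 | h3
      · exact Or.inl ((Subgroup.map_eq_bot_iff_of_injective _ H.subtype_injective).1 h3)
      · exact Or.inr (by rw [← h3]; exact (Subgroup.comap_map_eq_self_of_injective H.subtype_injective M).symm)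
  obtain ⟨h3, -, h4, -, h5⟩ := h2 S hS
  refine ⟨S.map H.subtype, Subgroup.map_le_iff_le_comap.2 h3, fun x hx => nm_of_conj ?_,
    (S.equivMapOfInjective H.subtype H.subtype_injective).symm.isSimpleGroup⟩
  rintro _ ⟨y, hy, rfl⟩
  exact ⟨_, (Subgroup.mem_normalizer_iff.1 (h4 (show (⟨x, hN hx⟩ : H) ∈ N.subgroupOf H from hx)) y).1 hy, rfl⟩

theorem comm_of_inf {S R : Subgroup G} (h1 : ∀ x ∈ S, TH.cj x R = R) (h2 : ∀ x ∈ R, TH.cj x S = S) (h : S ⊓ R = ⊥) :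
    ∀ x ∈ S, ∀ y ∈ R, x * y = y * x := fun _ hx _ hy =>
  Lib.MinNormal.commute_of_disjoint (fun a ha => nm_iff.2 (h1 a ha)) (fun a ha => nm_iff.2 (h2 a ha))
    (disjoint_iff.2 h) hx hy

theorem inf_eq_bot_or_le {S R : Subgroup G} [IsSimpleGroup S] (h : ∀ x ∈ S, TH.cj x R = R) : S ⊓ R = ⊥ ∨ S ≤ R := by
  have h1 : (R.subgroupOf S).Normal := ⟨fun x hx a => nm_conj (K := R) (h a a.2) hx⟩
  rcases h1.eq_bot_or_eq_top with h2 | h2
  · exact Or.inl (disjoint_iff.1 (Subgroup.subgroupOf_eq_bot.1 h2).symm)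
  · exact Or.inr (Subgroup.subgroupOf_eq_top.1 h2)

/-- the simple factors -/
def Fac (T H : Subgroup G) : Set (Subgroup G) :=
  {S | IsSimpleGroup S ∧ ∃ N, MinA T H N ∧ S ≤ N ∧ ∀ x ∈ N, TH.cj x S = S}

theorem Fac.comm {S R : Subgroup G} (hS : S ∈ Fac T H) (hR : R ∈ Fac T H) (hne : S ≠ R) :
    ∀ x ∈ S, ∀ y ∈ R, x * y = y * x := by
  obtain ⟨s1, N, hN, s2, s3⟩ := hS
  obtain ⟨r1, M, hM, r2, r3⟩ := hR
  by_cases h : N = M
  · subst h
    refine comm_of_inf (fun x hx => r3 x (s2 hx)) (fun x hx => s3 x (r2 hx)) ?_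
    rcases inf_eq_bot_or_le (S := S) (R := R) fun x hx => r3 x (s2 hx) with h1 | h1
    · exact h1
    rcases inf_eq_bot_or_le (S := R) (R := S) fun x hx => s3 x (r2 hx) with h2 | h2
    · rwa [inf_comm]
    · exact absurd (le_antisymm h1 h2) hne
  · have h1 : N ⊓ M = ⊥ := by
      rcases hN.2.2.2 (N ⊓ M) inf_le_left fun a ha => nm_inf (hN.2.2.1 a ha) (hM.2.2.1 a ha) with h1 | h1
      · exact h1
      · exact absurd ((hM.2.2.2 N (h1 ▸ inf_le_right) hN.2.2.1).resolve_left hN.2.1) h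
    exact fun x hx y hy => comm_of_inf (fun a ha => hM.2.2.1 a (hN.1 ha).1) (fun a ha => hN.2.2.1 a (hM.1 ha).1) h1
      x (s2 hx) y (r2 hy)

theorem Fac.cj {S : Subgroup G} (hS : S ∈ Fac T H) {h : G} (hh : h ∈ H) : TH.cj h S ∈ Fac T H := by
  obtain ⟨s1, N, hN, s2, s3⟩ := hS
  exact ⟨(S.equivMapOfInjective _ (MulAut.conj h).injective).symm.isSimpleGroup, N, hN,
    (cj_mono h s2).trans (hN.2.2.1 h hh).le, fun x hx => nm_cj_iff.2 (s3 _ (nm_conj' (hN.2.2.1 h hh) hx))⟩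

theorem Fac.le {S : Subgroup G} (hS : S ∈ Fac T H) : S ≤ H ⊓ T :=
  let ⟨_, _, hN, s2, _⟩ := hS
  s2.trans hN.1

/-- **the trichotomy** -/
theorem tri (hT : DS.Setup T H) (h0 : H ⊓ T ≠ ⊥) :
    (∃ E r, DS.Loc T H E r) ∨ (∃ N, Sim T H N) ∨ ∃ 𝓢, Mul T H 𝓢 := by
  have := hT.normal
  by_cases hab : ∃ A : Subgroup G, A ≤ T ∧ H ≤ normalizer (A : Set G) ∧ A ≠ ⊥ ∧ ∀ x ∈ A, ∀ y ∈ A, x * y = y * x
  · obtain ⟨A, h1, h2, h3, h4⟩ := hab
    obtain ⟨E, r, -, h⟩ := DS.Gen.exists_loc hT h1 h2 h3 h4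
    exact Or.inl ⟨E, r, h⟩
  right
  have hne : ∀ S ∈ Fac T H, S ≠ ⊥ := fun S hS => by
    have := hS.1
    exact (Subgroup.nontrivial_iff_ne_bot S).1 inferInstance
  have hna : ∀ S ∈ Fac T H, ¬ IsMulCommutative S := fun S hS hc => by
    let C : Set G := {x | ∃ h ∈ H, x ∈ TH.cj h S}
    have h1 : ∀ x ∈ C, ∀ y ∈ C, x * y = y * x := by
      rintro x ⟨a, ha, hx⟩ y ⟨b, hb, hy⟩
      by_cases h : TH.cj a S = TH.cj b S
      · rw [← h] at hy
        obtain ⟨x, hx, rfl⟩ := hx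
        obtain ⟨y, hy, rfl⟩ := hy
        rw [← map_mul, ← map_mul]
        exact congrArg _ (congrArg Subtype.val (hc.1.comm ⟨x, hx⟩ ⟨y, hy⟩))
      · exact Fac.comm (Fac.cj hS ha) (Fac.cj hS hb) h x hx y hy
    refine hab ⟨Subgroup.closure C, (Subgroup.closure_le _).2 ?_, fun a ha => nm_iff.2 (nm_of_le ?_), fun h => hne S hS ?_,
      fun x hx y hy => ?_⟩
    · rintro x ⟨a, ha, hx⟩
      exact (Fac.le (Fac.cj hS ha) hx).2
    · rw [cj_closure]
      refine Subgroup.closure_mono ?_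
      rintro _ ⟨x, ⟨b, hb, hx⟩, rfl⟩
      exact ⟨a * b, mul_mem ha hb, by rw [cj_mul]; exact conj_mem_cj a hx⟩
    · rw [eq_bot_iff, ← h]
      exact fun x hx => Subgroup.subset_closure ⟨1, one_mem _, by rwa [cj_one]⟩
    · have h2 : Subgroup.closure C ≤ Subgroup.centralizer (Subgroup.closure C : Set G) := by
        rw [Subgroup.centralizer_closure, Subgroup.closure_le]
        exact fun x hx y hy => h1 y hy x hx
      exact h2 hy x hx
  have hex : ∀ Z : Subgroup G, Z ≤ H ⊓ T → Z ≠ ⊥ → (∀ h ∈ H, TH.cj h Z = Z) → ∃ S ∈ Fac T H, S ≤ Z := fun Z h1 h2 h3 => by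
    obtain ⟨N, h4, hN⟩ := exists_minA h1 h2 h3
    obtain ⟨S, h5, h6, h7⟩ := hN.exists_simple
    exact ⟨S, ⟨h7, N, hN, h5, h6⟩, h5.trans h4⟩
  obtain ⟨S₀, hS₀, -⟩ := hex _ le_rfl h0 fun h hh => nm_of_conj fun x hx =>
    ⟨H.mul_mem (H.mul_mem hh hx.1) (H.inv_mem hh), hT.normal.conj_mem x hx.2 h⟩
  have hcent : ∀ t ∈ T, (∀ S ∈ Fac T H, ∀ x ∈ S, t * x = x * t) → t = 1 := by
    let C : Subgroup G := T ⊓ Subgroup.centralizer {x | ∃ S ∈ Fac T H, x ∈ S}
    have h1 : ∀ h ∈ H, ∀ c ∈ C, h * c * h⁻¹ ∈ C := fun h hh c hc => ⟨hT.normal.conj_mem c hc.1 h, by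
      rintro x ⟨S, hS, hx⟩
      have h2 := hc.2 (h⁻¹ * x * h⁻¹⁻¹) ⟨_, Fac.cj hS (inv_mem hh), conj_mem_cj _ hx⟩
      calc x * (h * c * h⁻¹) = h * (h⁻¹ * x * h⁻¹⁻¹ * c) * h⁻¹ := by group
        _ = h * c * h⁻¹ * x := by rw [h2]; group⟩
    have h2 : C = ⊥ := by
      by_contra h0
      have h3 : C ≤ H := le_of_inv hT inf_le_left (fun k => by
        obtain ⟨x, hx, hx1⟩ := (Subgroup.bot_or_exists_ne_one S₀).resolve_left (hne S₀ hS₀)
        refine hx1 (mem_bot.1 (hT.cent ▸ fun t ht => ?_))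
        have h4 : t ∈ C := k.symm ▸ ht
        exact (h4.2 x ⟨S₀, hS₀, hx⟩).symm) h1
      obtain ⟨S, hS, h4⟩ := hex C (le_inf h3 inf_le_left) h0 fun h hh => nm_of_conj (h1 h hh)
      exact hna S hS ⟨⟨fun x y => Subtype.ext ((h4 y.2).2 x ⟨S, hS, x.2⟩)⟩⟩
    intro t ht h
    rw [← Subgroup.mem_bot, ← h2]
    exact ⟨ht, by rintro x ⟨S, hS, hx⟩; exact (h S hS x hx).symm⟩
  by_cases h2 : (Fac T H).Nontrivial
  · exact Or.inr ⟨Fac T H, fun S hS => Fac.le hS, fun S hS => hS.1, hna, fun S hS R hR => Fac.comm hS hR,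
      fun h hh S hS => Fac.cj hS hh, h2, hcent⟩
  · have h3 : ∀ S ∈ Fac T H, S = S₀ := fun S hS => Set.not_nontrivial_iff.1 h2 hS hS₀
    exact Or.inl ⟨S₀, Fac.le hS₀, fun h hh x hx => nm_conj (h3 _ (Fac.cj hS₀ hh)) hx, hS₀.1, hna S₀ hS₀,
      fun t ht h => hcent t ht fun S hS => h3 S hS ▸ h⟩

end tri

end Cfsg.Agent.N2.Ex
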