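import Cfsg.Agent.N2.Ex.Tri
import Cfsg.Agent.N2.Ex.K.Defs
import Cfsg.Agent.N2.Ex.Cb.Main
import Cfsg.Agent.TH.Ex.Ab.Defs
import Cfsg.Agent.DS.Nt.Glue
import Cfsg.Agent.H912.KnownSplit

/-!
# N2 (S3519), the groups `F₄, E₆, ²E₆, E₇, E₈`: interface (sub-captain helper93)

Paper: `notes/N2/exc.md`.  `Y = YY D p`, `F : XF hp p (p ^ f) T` a frame, `A = H ⊓ T`, conclusion `Gd T H`.

* `MR D p Ψ = T ⊔ ⟨X a : a ∈ Ψ⟩`, `InvMR F H` (an invariant proper subgroup of maximal rank);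
* `X0` (standing hypotheses), `NC` (`X0`, not `InvMR`, `DS.Nt.Ctx`);
* boxes `BoxAl`, `BoxTM`, `BoxLoc`, `BoxCC`, `BoxMul`, `BoxSim Q`, and `BoxK` (fixed vectors; its parts are in `N2/Ex/K`);
* the tool `gd_of_dd`; assembly `gd_of`.
-/

set_option autoImplicit false
set_option linter.unusedSectionVars false

namespace Cfsg.Agent.N2.Ex

open CoxeterSystem Cfsg Cfsg.Lie Cfsg.Lie.ChevalleyDatum
open Cfsg.Agent.ChevalleyStructure Cfsg.Agent.ChevalleyStructure.CoxeterGeom Cfsg.Agent.Tits.Roots Cfsg.Agent.Nodes Cfsg.Agent.Nodes.BNOf Cfsg.Agent.Nodes.RGDChev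
open Cfsg.Agent.KFacts.RgdChevCoord Cfsg.Agent.BpExc.Fr Cfsg.Agent.BpExc.LangFr
open Cfsg.Agent.H469.Exc Cfsg.Agent.H316.U6 Cfsg.Agent.H129.TorusChar Cfsg.Agent.DS.Ex Cfsg.Agent.DS.Nt
open Cfsg.Agent.H931.KC (nmk)
open Cfsg.Agent.SB.Exc (XF nP dM ordU)
open Cfsg.Agent.TH.Ab (IsoX)

section Defs

variable {D : ChevalleyDatum} {l : ℕ} {M : CoxeterMatrix (Fin l)} (hp : IsType D l M) (p : ℕ) [Fact p.Prime]

/-- the subgroup generated by the torus and the root groups of `Ψ` -/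
noncomputable def MR (D : ChevalleyDatum) {l : ℕ} (p : ℕ) [Fact p.Prime] (Ψ : Set (Fin l → ℤ)) : Subgroup (YY D p) :=
  TT D (KK p) ⊔ RGD.Sup (XX D l (KK p)) Ψ

/-- `Ψ` is a set of roots which is closed under its reflections -/
def RC (Ψ : Set (Fin l → ℤ)) : Prop :=
  (∀ a ∈ Ψ, IsRoot M.toCoxeterSystem hp.isCartan a) ∧
    ∀ (w : M.Group) (i : Fin l), rep M.toCoxeterSystem hp.isCartan w (sr i) ∈ Ψ →
      ∀ b ∈ Ψ, rep M.toCoxeterSystem hp.isCartan (w * M.toCoxeterSystem.simple i * w⁻¹) b ∈ Ψ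

/-- the error term -/
def zc (l p : ℕ) : ℕ := if l = 4 ∧ p = 2 then 4 else if l = 6 ∧ p = 3 ∨ l = 7 ∧ p = 2 then 1 else 0

variable {hp p} {G : Type} [Group G] {T : Subgroup G}

/-- **(alpha)**: an invariant proper subgroup of maximal rank -/
def InvMR {q : ℕ} (F : XF hp p q T) (H : Subgroup G) : Prop :=
  ∃ (x : YY D p) (Ψ : Set (Fin l → ℤ)), RC hp Ψ ∧ MR D p Ψ ≠ ⊤ ∧ F.L.Inv H (TH.cj x (MR D p Ψ))

/-- the standing hypotheses -/
structure X0 (tw : Bool) (f : ℕ) (F : XF hp p (p ^ f) T) (H : Subgroup G) : Prop where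
  typ : Typ D
  iso : IsoX D tw p f T
  cx : Cx p T H
  cf : Cf

/-- **(beta)**: the standing hypotheses after `BoxAl` and `BoxTM` -/
structure NC (tw : Bool) (f : ℕ) (F : XF hp p (p ^ f) T) (H : Subgroup G) : Prop extends X0 tw f F H where
  nmr : ¬ InvMR F H
  nt : DS.Nt.Ctx F.L H

/-- the local case which is left to the component arguments -/
structure CC {q : ℕ} (F : XF hp p q T) (R : Subgroup G) (r : ℕ) : Prop where
  typ : D = chevE6 ∧ r = 3 ∨ D = chevE7 ∧ r = 2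
  pow : ∀ x ∈ R, x ^ r = 1
  comm : ∀ x ∈ R, ∀ y ∈ R, x * y = y * x
  card : Nat.card R = r ^ 2
  ntor : ¬ Toral p (im F.L R)
  cen : ¬ T ⊓ Subgroup.centralizer (R : Set G) ≤ R

/-- **(K)**: fixed vectors of `R` and Scott's inequality; `d = dd ∘ ι` except for the `2`-singular elements of `F₄`, `p = 2` -/
structure KS {q : ℕ} (F : XF hp p q T) (R : Subgroup G) : Prop where
  irr : K.Irr hp p (im F.L R)
  tor : ∃ g : YY D p, ∀ v ∈ Fx p (im F.L R : Set (YY D p)), K.InT p (ad D p g v)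
  cen : (D = chevF4 → p ≠ 2) → Fx p (im F.L R : Set (YY D p)) ≤ Fx p (Set.univ : Set (YY D p))
  scott : ∃ d : T → ℕ, (∀ y, (orderOf y).Coprime p ∨ (D = chevF4 → p ≠ 2) → d y = dd p (F.L.ι y)) ∧
    (∀ y (k : ℕ), y ^ p ^ k = 1 → Fintype.card D.Idx ≤ p ^ k * d y) ∧
    ∀ x y : T, Subgroup.closure {(x : G), (y : G)} = R → d x + d y + d (x * y) ≤ Fintype.card D.Idx + 2 * zc l p

end Defs

/-- a property of a frame and a subgroup -/
abbrev Pr : Type 1 := ∀ (D : ChevalleyDatum) (l : ℕ) (M : CoxeterMatrix (Fin l)) (hp : IsType D l M) (p : ℕ) [Fact p.Prime]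
  (f : ℕ) (G : Type) [Group G] (T : Subgroup G), XF hp p (p ^ f) T → Subgroup G → Prop

/-- `P` holds under the hypotheses `X0` -/
def On0 (P : Pr) : Prop := ∀ (D : ChevalleyDatum) (l : ℕ) (M : CoxeterMatrix (Fin l)) (hp : IsType D l M) (p : ℕ)
  [Fact p.Prime] (tw : Bool) (f : ℕ) (G : Type) [Group G] [Finite G] (T H : Subgroup G) (F : XF hp p (p ^ f) T),
  X0 tw f F H → P D l M hp p f G T F H

/-- `P` holds under the hypotheses `NC` -/
def On (P : Pr) : Prop := ∀ (D : ChevalleyDatum) (l : ℕ) (M : CoxeterMatrix (Fin l)) (hp : IsType D l M) (p : ℕ)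
  [Fact p.Prime] (tw : Bool) (f : ℕ) (G : Type) [Group G] [Finite G] (T H : Subgroup G) (F : XF hp p (p ^ f) T),
  NC tw f F H → P D l M hp p f G T F H

/-! ### the boxes (alpha) -/

/-- [AL] subgroups of maximal rank -/
def BoxAl : Prop := On0 fun _ _ _ _ _ _ _ _ _ T F H => InvMR F H → Gd T H

/-- [TM] the connected centraliser of an invariant toral subgroup -/
def BoxTM : Prop := On0 fun D _ _ _ p _ _ _ _ _ F H =>
  ∀ A₀ : Subgroup (YY D p), Toral p A₀ → F.L.Inv H A₀ → A₀ ≠ ⊥ → InvMR F H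

/-! ### the box (K): fixed vectors -/

/-- [K] invariant perfect subgroups with trivial centraliser -/
def BoxK : Prop := On fun _ _ _ _ _ _ _ _ _ T F H => ∀ R, Prf T H R → KS F R

/-! ### the boxes (beta) -/

/-- [LOC] the local case -/
def BoxLoc : Prop := On fun _ _ _ _ _ _ _ G _ T F H => ∀ (R : Subgroup G) (r : ℕ), r.Prime → R ≠ ⊥ → R ≤ T →
  H ≤ Subgroup.normalizer (R : Set G) → IsPGroup r R → Gd T H ∨ CC F R r

/-- [CC] the rest of the local case -/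
def BoxCC : Prop := BoxK → BoxLoc → On fun _ _ _ _ _ _ _ G _ T F H => ∀ (R : Subgroup G) (r : ℕ), R ≤ T →
  H ≤ Subgroup.normalizer (R : Set G) → CC F R r → Gd T H

/-- [MUL] at least two components -/
def BoxMul : Prop := BoxK → On fun _ _ _ _ _ _ _ _ _ T _ H => ∀ 𝓢, Mul T H 𝓢 → Gd T H

/-- [SIM] the socle of `A` is a simple group of the family `Q p` -/
def BoxSim (Q : ℕ → Fam) : Prop := BoxK → On fun _ _ _ _ p _ _ _ _ T _ H => ∀ N, Sim T H N → Q p N → Gd T H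

/-- defining characteristic -/
def qDef : ℕ → Fam := fun p N _ => IsLieTypeChar p N
/-- alternating -/
def qAlt : ℕ → Fam := fun p N _ => ¬ IsLieTypeChar p N ∧ IsAlternating N
/-- sporadic or Tits -/
def qSpor : ℕ → Fam := fun p N _ => ¬ IsLieTypeChar p N ∧ (IsSporadicGroup N ∨ Lie.IsoTits N)
/-- cross characteristic -/
def qCross : ℕ → Fam := fun p N _ => ¬ IsLieTypeChar p N ∧ ¬ IsAlternating N ∧ ∃ r : ℕ, r.Prime ∧ IsLieTypeChar r N

theorem BoxSim.or {Q Q₁ Q₂ : ℕ → Fam} (h₁ : BoxSim Q₁) (h₂ : BoxSim Q₂)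
    (h : ∀ (p : ℕ) (N : Type) [Group N] [Finite N] [IsSimpleGroup N], Q p N → Q₁ p N ∨ Q₂ p N) : BoxSim Q := by
  intro hK D l M hp p _ tw f G _ _ T H F C N hN hQ
  have := hN.simple
  exact (h p N hQ).elim (h₁ hK D l M hp p tw f G T H F C N hN) (h₂ hK D l M hp p tw f G T H F C N hN)

/-- all boxes -/
structure Boxes : Prop where
  al : BoxAl
  tm : BoxTM
  k : BoxK
  loc : BoxLoc
  cc : BoxCC
  mul : BoxMul
  sdef : BoxSim qDef
  salt : BoxSim qAlt
  sspor : BoxSim qSpor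
  scross : BoxSim qCross

/-- **assembly** -/
theorem gd_of (B : Boxes) : On0 fun _ _ _ _ _ _ _ _ _ T _ H => Gd T H := by
  intro D l M hp p _ tw f G _ _ T H F C
  by_cases h : InvMR F H
  · exact B.al D l M hp p tw f G T H F C h
  have N : NC tw f F H := ⟨C, h, C.typ, C.cx.setup, ⟨F.m.g, F.hσ ▸ F.m.fr⟩, C.cx.noP, fun A₀ h1 h2 => by
    by_contra h3
    exact h (B.tm D l M hp p tw f G T H F C A₀ h1 h2 h3)⟩
  rcases tri C.cx.setup C.cx.ne_bot with ⟨E, r, hE⟩ | ⟨S, hS⟩ | ⟨𝓢, hS⟩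
  · rcases B.loc D l M hp p tw f G T H F N E r hE.prime hE.ne_bot hE.le_S hE.norm.ge
      (fun x => ⟨1, Subtype.ext (by simpa using hE.pow x x.2)⟩) with k | k
    · exact k
    · exact B.cc B.k B.loc D l M hp p tw f G T H F N E r hE.le_S hE.norm.ge k
  · have := hS.simple
    by_cases hl : IsLieTypeChar p S
    · exact B.sdef B.k D l M hp p tw f G T H F N S hS hl
    by_cases ha : IsAlternating S
    · exact B.salt B.k D l M hp p tw f G T H F N S hS ⟨hl, ha⟩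
    have hc : ¬ IsPrimeCyclic S := fun h1 => by
      have : Fact (Nat.card S).Prime := ⟨h1⟩
      have := isCyclic_of_prime_card (α := S) rfl
      exact hS.nonab inferInstance
    rcases H912.Known.known_split (C.cf S) hc with h1 | h1 | h1 | h1
    · exact absurd h1 ha
    · exact B.scross B.k D l M hp p tw f G T H F N S hS ⟨hl, ha, h1⟩
    · exact B.sspor B.k D l M hp p tw f G T H F N S hS ⟨hl, Or.inr h1⟩
    · exact B.sspor B.k D l M hp p tw f G T H F N S hS ⟨hl, Or.inl h1⟩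
  · exact B.mul B.k D l M hp p tw f G T H F N 𝓢 hS

/-! ### tools -/

section tools

variable {D : ChevalleyDatum} {l : ℕ} {M : CoxeterMatrix (Fin l)} {hp : IsType D l M} {p : ℕ} [Fact p.Prime]
  {q : ℕ} {G : Type} [Group G] [Finite G] {T H : Subgroup G}

/-- **the numerical criterion** for a `p'`-element `a` of `A` -/
theorem gd_of_dd (F : XF hp p q T) {a : T} (ha : (a : G) ∈ H) (ho : (orderOf a).Coprime p) {k n : ℕ}
    (hk : dd p (F.L.ι a) ≤ l + k) (hn : Nat.card ↥(H ⊓ T) ≤ n)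
    (h : dM l * ((nmk D l * (q ^ k * (q + 1) ^ l)) ^ 3 * n) ≤ ordU l q) : Gd T H := by
  refine gd_of_cn ha (Cb.cn_le' F.m ho (F.hι ▸ hk)) ?_
  have h0 : 0 < dM l := by unfold dM; split_ifs <;> norm_num
  exact Nat.le_of_mul_le_mul_left ((Nat.mul_le_mul_left _ (Nat.mul_le_mul_left _ hn)).trans (h.trans F.ord)) h0

end tools

end Cfsg.Agent.N2.Ex
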