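import Cfsg.Agent.N2.Ex.Defs
import Cfsg.Agent.N2.Par.Main
import Cfsg.Agent.TH.Ex.Ab.Frm

/-!
# N2 (S3519), the groups `F₄, E₆, ²E₆, E₇, E₈`: the rows from the boxes (helper93)
-/

set_option autoImplicit false

namespace Cfsg.Agent.N2.Ex

open Cfsg Cfsg.Lie Cfsg.Agent.Nodes.RGDChev Cfsg.Agent.DS.Ex Cfsg.Agent.FP3
open Cfsg.Agent.ChevalleyStructure.CoxeterGeomTypes Cfsg.Agent.H469.Exc
open Cfsg.Agent.TH.Ab (IsoX)

theorem asRow_of (B : Boxes) (cf : Cf) {D : ChevalleyDatum} {l : ℕ} {M : CoxeterMatrix (Fin l)} (hp : IsType D l M)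
    (hD : Typ D) {p : ℕ} [Fact p.Prime] {tw : Bool} {f : ℕ} {K : Type} [Group K] [Finite K] [IsSimpleGroup K]
    (hn : ¬ IsMulCommutative K) (hK : IsLieTypeChar p K) (h : IsoX D tw p f K) : ASRow K := by
  intro A Γ hA
  by_cases h1 : ∀ E : Subgroup K, N2.Inv Γ E → IsPGroup p E → E = ⊥
  · by_cases h2 : p ∣ A.index
    · refine cx_row hn (fun G _ _ T H ⟨e⟩ C => ?_) A Γ hA h1 h2
      have hi : IsoX D tw p f T := by
        obtain ⟨hf, F, _, _, _, k⟩ := h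
        refine ⟨hf, F, inferInstance, inferInstance, inferInstance, ?_⟩
        rcases k with ⟨k1, k2, ⟨e'⟩⟩ | ⟨k1, k2, k3, ⟨e'⟩⟩
        · exact Or.inl ⟨k1, k2, ⟨e.trans e'⟩⟩
        · exact Or.inr ⟨k1, k2, k3, ⟨e.trans e'⟩⟩
      obtain ⟨F⟩ := TH.Ab.boxFrm D l M hp hD tw p f G T
        ⟨C.setup.normal, C.setup.simple, C.setup.noncomm, C.setup.cent⟩ hi
      exact gd_of B D l M hp p tw f G T H F ⟨hD, hi, C, cf⟩
    · exact Par.good_of_index hn hK hA h2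
  · push Not at h1
    obtain ⟨E, a, b, c⟩ := h1
    exact Par.good_of_inv hn hK hA a b c

theorem exists_pf (F : Type) [Field F] [Fintype F] :
    ∃ (p f : ℕ) (_ : Fact p.Prime) (_ : CharP F p), 0 < f ∧ Fintype.card F = p ^ f := by
  obtain ⟨p, hp⟩ := CharP.exists F
  obtain ⟨n, h1, h2⟩ := FiniteField.card F p
  exact ⟨p, n, ⟨h1⟩, hp, n.2, h2⟩

theorem row_F4 (B : Boxes) (cf : Cf) : Row fF4 := by
  rintro K _ _ _ hn ⟨F, _, _, e⟩
  obtain ⟨p, f, _, _, h1, h2⟩ := exists_pf F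
  exact asRow_of B cf hpF4 (Or.inl rfl) (p := p) (tw := false) hn
    (.inr (.inr (.inr (.inr (.inr (.inr (.inl ⟨F, inferInstance, inferInstance, inferInstance, .inr (.inl e)⟩)))))))
    ⟨h1, F, inferInstance, inferInstance, inferInstance, .inl ⟨rfl, h2, e⟩⟩

theorem row_E6 (B : Boxes) (cf : Cf) : Row fE6 := by
  rintro K _ _ _ hn ⟨F, _, _, e⟩
  obtain ⟨p, f, _, _, h1, h2⟩ := exists_pf F
  exact asRow_of B cf hpE6 (Or.inr (Or.inl rfl)) (p := p) (tw := false) hn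
    (.inr (.inr (.inr (.inr (.inr (.inr (.inl ⟨F, inferInstance, inferInstance, inferInstance, .inr (.inr (.inl e))⟩)))))))
    ⟨h1, F, inferInstance, inferInstance, inferInstance, .inl ⟨rfl, h2, e⟩⟩

theorem row_E7 (B : Boxes) (cf : Cf) : Row fE7 := by
  rintro K _ _ _ hn ⟨F, _, _, e⟩
  obtain ⟨p, f, _, _, h1, h2⟩ := exists_pf F
  exact asRow_of B cf hpE7 (Or.inr (Or.inr (Or.inl rfl))) (p := p) (tw := false) hn
    (.inr (.inr (.inr (.inr (.inr (.inr (.inl ⟨F, inferInstance, inferInstance, inferInstance, .inr (.inr (.inr (.inl e)))⟩)))))))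
    ⟨h1, F, inferInstance, inferInstance, inferInstance, .inl ⟨rfl, h2, e⟩⟩

theorem row_E8 (B : Boxes) (cf : Cf) : Row fE8 := by
  rintro K _ _ _ hn ⟨F, _, _, e⟩
  obtain ⟨p, f, _, _, h1, h2⟩ := exists_pf F
  exact asRow_of B cf hpE8 (Or.inr (Or.inr (Or.inr rfl))) (p := p) (tw := false) hn
    (.inr (.inr (.inr (.inr (.inr (.inr (.inl ⟨F, inferInstance, inferInstance, inferInstance, .inr (.inr (.inr (.inr e)))⟩)))))))
    ⟨h1, F, inferInstance, inferInstance, inferInstance, .inl ⟨rfl, h2, e⟩⟩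

theorem row_2E6 (B : Boxes) (cf : Cf) : Row f2E6 := by
  rintro K _ _ _ hn ⟨F, _, _, q, hq, hF, e⟩
  obtain ⟨p, f, _, _, h1, h2⟩ := exists_pf F
  obtain ⟨r, k, hr, hk, rfl⟩ := (isPrimePow_nat_iff q).1 hq
  obtain rfl : r = p := by
    have h3 : r ∣ p ^ f := h2 ▸ hF ▸ (dvd_pow_self r hk.ne').trans (dvd_pow_self _ two_ne_zero)
    exact (Nat.prime_dvd_prime_iff_eq hr Fact.out).1 (hr.dvd_of_dvd_pow h3)
  exact asRow_of B cf hpE6 (Or.inr (Or.inl rfl)) (p := r) (tw := true) (f := k) hn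
    (.inr (.inr (.inr (.inr (.inr (.inr (.inr (.inl ⟨F, inferInstance, inferInstance, inferInstance, _, hq, .inl ⟨hF, e⟩⟩))))))))
    ⟨hk, F, inferInstance, inferInstance, inferInstance, .inr ⟨rfl, rfl, hF, e⟩⟩

/-- **the five rows** -/
theorem rows (B : Boxes) (cf : Cf) : Row fF4 ∧ Row fE6 ∧ Row fE7 ∧ Row fE8 ∧ Row f2E6 :=
  ⟨row_F4 B cf, row_E6 B cf, row_E7 B cf, row_E8 B cf, row_2E6 B cf⟩

end Cfsg.Agent.N2.Ex
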